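import Cfsg.Agent.H577.XZ.Trans
import Cfsg.Agent.S0279

/-!
# S4791 + S4927, label route: transfer of `x0` from `GU_n` to `PSU_n` (helper624)

* `sup_gu` : `GU_n = SU_n C(P)` for `p ∤ q + 1`;
* `x0_gu` : `S` isomorphic to `PSU_n(q)`, `n ≥ 3`, `p ∤ q + 1`, `p ∤ q`: `x0 p M (GU_n(q)) = x0 p M S`.
-/

set_option autoImplicit false

open Cfsg Subgroup Matrix
open Cfsg.Agent.H674.XZ Cfsg.Agent.H577.XZ Cfsg.Agent.H107.AutU Cfsg.Agent.ClassicalGeometry.PSUAutCount
open Cfsg.Agent.LieClassical.HermBasic Cfsg.Agent.LieClassical.HermSiegel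

namespace Cfsg.Agent.H624.XZ

universe u

variable {F : Type*} [Field F] [Fintype F] {q n : ℕ} {p : ℕ} [hp : Fact p.Prime]

/-- the natural module -/
noncomputable def natGU (P : Subgroup (GU n F q)) : P →* ((Fin n → F) ≃ₗ[F] (Fin n → F)) :=
  (((LinearMap.GeneralLinearGroup.generalLinearEquiv F (Fin n → F)).toMonoidHom.comp
    (Matrix.GeneralLinearGroup.toLin (n := Fin n) (R := F)).toMonoidHom).comp (GU n F q).subtype).comp P.subtype

omit [Fintype F] in
theorem natGU_apply (P : Subgroup (GU n F q)) (g : P) (v : Fin n → F) :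
    natGU P g v = gm (g : GU n F q) *ᵥ v := rfl

/-- an element of `GU_n` centralizing the `p`-group `P`, of determinant `δ ^ (p ^ a)` -/
theorem exists_cent (hp2 : p ≠ 2) (hF : Fintype.card F = q ^ 2) (hn : n ≠ 0) (hpF : (p : F) ≠ 0)
    {P : Subgroup (GU n F q)} (hP : IsPGroup p P) {δ : Fˣ} (hδ : (δ : F) * (δ : F) ^ q = 1) :
    ∃ (a : ℕ) (C : GU n F q), C ∈ centralizer (P : Set (GU n F q)) ∧ dt n F q C = δ ^ (p ^ a) := by
  classical
  obtain ⟨a, c, hc1, hc2, hc3⟩ := exists_unitary hp2 hF hP hpF (natGU P) (fun g u v => g.1.2 u v) hn hδ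
  have h1 : ∀ v, (LinearMap.toMatrix' c) *ᵥ v = c v := fun v => by
    rw [← Matrix.toLin'_apply, Matrix.toLin'_toMatrix']
  obtain ⟨C0, hC0, hC⟩ := ClassicalGeometry.HermOrtho.exists_GU_of_isometry hF (M := LinearMap.toMatrix' c)
    (fun u v => by rw [h1, h1, hc1])
  have h2 : gm (⟨C0, hC0⟩ : GU n F q) = LinearMap.toMatrix' c := hC
  refine ⟨a, ⟨C0, hC0⟩, ?_, ?_⟩
  · rw [mem_centralizer_iff]
    intro g hg
    have h3 : gm g * gm (⟨C0, hC0⟩ : GU n F q) = gm (⟨C0, hC0⟩ : GU n F q) * gm g := by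
      apply Matrix.ext_of_mulVec_single
      intro i
      rw [h2, ← mulVec_mulVec, ← mulVec_mulVec, h1, h1]
      exact (hc2 ⟨g, hg⟩ _).symm
    exact Subtype.ext (Units.ext h3)
  · apply Units.ext
    rw [coe_dt, h2, LinearMap.det_toMatrix', hc3, Units.val_pow_eq_pow_val]

/-- `det^(q+1) = 1` -/
theorem dt_pow (hF : Fintype.card F = q ^ 2) (B : GU n F q) : (dt n F q B) ^ (q + 1) = 1 := by
  apply Units.ext
  rw [Units.val_pow_eq_pow_val, pow_succ', Units.val_one]
  exact dt_norm hF B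

/-- `GU_n = SU_n C(P)` -/
theorem sup_gu (hp2 : p ≠ 2) (hF : Fintype.card F = q ^ 2) (hn : n ≠ 0) (hpF : (p : F) ≠ 0) (hpq : ¬ p ∣ q + 1)
    (P : Sylow p (GU n F q)) :
    (dt n F q).ker ⊔ centralizer ((P : Subgroup (GU n F q)) : Set (GU n F q)) = ⊤ := by
  classical
  rw [eq_top_iff]
  intro g _
  obtain ⟨a, C, hC1, hC2⟩ := exists_cent hp2 hF hn hpF P.2 (dt_norm hF g)
  obtain ⟨u, hu⟩ := exists_zpow (dt_pow hF g) hpq a
  have h2 : g = (g * (C ^ u)⁻¹) * C ^ u := by rw [inv_mul_cancel_right]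
  rw [h2]
  refine mul_mem (mem_sup_left ?_) (mem_sup_right (zpow_mem hC1 u))
  rw [MonoidHom.mem_ker, map_mul, map_inv, map_zpow, hC2, hu, mul_inv_cancel]

/-- `SU_n` as a subgroup of `GU_n`, to `SU_n` -/
def toSU (n : ℕ) (F : Type*) [Field F] (q : ℕ) : (dt n F q).ker →* SU n F q where
  toFun g := ⟨⟨gm (g : GU n F q), congrArg Units.val g.2⟩, fun u v => herm_gm (g : GU n F q) u v⟩
  map_one' := rfl
  map_mul' _ _ := rfl

omit [Fintype F] in
theorem toSU_surjective : Function.Surjective (toSU n F q) := by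
  intro x
  refine ⟨⟨⟨Matrix.SpecialLinearGroup.toGL (x : Matrix.SpecialLinearGroup (Fin n) F), fun u v => x.2 u v⟩, ?_⟩, rfl⟩
  rw [MonoidHom.mem_ker]
  apply Units.ext
  exact (x : Matrix.SpecialLinearGroup (Fin n) F).2

omit [Fintype F] in
theorem toSU_injective : Function.Injective (toSU n F q) := by
  intro x y h
  apply Subtype.ext
  apply Subtype.ext
  apply Units.ext
  exact congrArg (fun z : SU n F q => ((z : Matrix.SpecialLinearGroup (Fin n) F) : Matrix (Fin n) (Fin n) F)) h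

/-- `SU_n` as a subgroup of `GU_n`, to `PSU_n` -/
def toPSU (n : ℕ) (F : Type*) [Field F] (q : ℕ) : (dt n F q).ker →* PSU n F q :=
  (QuotientGroup.mk' (center (SU n F q))).comp (toSU n F q)

omit [Fintype F] in
theorem toPSU_surjective : Function.Surjective (toPSU n F q) :=
  (QuotientGroup.mk'_surjective _).comp toSU_surjective

omit hp in
theorem toPSU_ker (hF : Fintype.card F = q ^ 2) (hn : 3 ≤ n) (hpq : ¬ p ∣ q + 1) :
    ¬ p ∣ Nat.card (toPSU n F q).ker := by
  intro h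
  apply hpq
  have h1 : Nat.card (toPSU n F q).ker = Nat.card (center (SU n F q)) := by
    have e : (toPSU n F q).ker ≃ center (SU n F q) :=
      (Equiv.ofBijective (toSU n F q) ⟨toSU_injective, toSU_surjective⟩).subtypeEquiv fun x => by
        rw [MonoidHom.mem_ker]
        exact QuotientGroup.eq_one_iff _
    exact Nat.card_congr e
  rw [h1, Cfsg.Agent.S0279.result hF n hn] at h
  exact h.trans (Nat.gcd_dvd_right _ _)

/-- **The transfer from `GU_n` to `PSU_n`.** -/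
theorem x0_gu {M : Ideal AlgInt} (hM : IsPModular p M) (hp2 : p ≠ 2) (hF : Fintype.card F = q ^ 2) (hn : 3 ≤ n)
    (hpF : (p : F) ≠ 0) (hpq : ¬ p ∣ q + 1) {S : Type u} [Group S] [Finite S]
    (e : Nonempty (S ≃* PSU n F q)) : x0 p M (GU n F q) = x0 p M S := by
  classical
  obtain ⟨e⟩ := e
  obtain ⟨P⟩ : Nonempty (Sylow p (GU n F q)) := inferInstance
  have hidx : ¬ p ∣ (dt n F q).ker.index := by
    rw [Subgroup.index_ker]
    intro h
    obtain ⟨y, hy⟩ := exists_prime_orderOf_dvd_card' p h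
    obtain ⟨B, hB⟩ := y.2
    apply hpq
    rw [← hy, ← Subgroup.orderOf_coe, ← hB]
    exact orderOf_dvd_of_pow_eq_one (dt_pow hF B)
  rw [x0_normal hM _ hidx P (sup_gu hp2 hF (by omega) hpF hpq P), x0_surj hM toPSU_surjective (toPSU_ker hF hn hpq)]
  symm
  have h1 : Function.Injective e.toMonoidHom := e.injective
  refine x0_surj hM (π := e.toMonoidHom) e.surjective ?_
  rw [(MonoidHom.ker_eq_bot_iff _).2 h1, Subgroup.card_bot]
  exact fun h => hp.out.one_lt.ne' (Nat.dvd_one.1 h)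

end Cfsg.Agent.H624.XZ
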